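import Mathlib
import Cfsg.Agent.Bimonster54.Chunks

/-!
The graph on eleven nodes and the words used.
-/

set_option autoImplicit false

namespace CfsgLib.Bimonster54

/-- Joined nodes. -/
def joined : List (ℕ × ℕ) := [(0, 1), (1, 2), (2, 3), (3, 4), (0, 5), (5, 6), (0, 7), (7, 8), (6, 9), (4, 10)]

/-- The Coxeter label of two nodes. -/
def label (i j : ℕ) : ℕ :=
  bif Nat.beq i j then 1
  else bif joined.any (fun p => Nat.beq p.1 i && Nat.beq p.2 j || Nat.beq p.1 j && Nat.beq p.2 i)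
    then 3 else 2

/-- The Coxeter relator of two nodes. -/
def coxWord (i j : ℕ) : List ℕ := (List.replicate (label i j) [i, j]).flatten

/-- All Coxeter relators on the first `n` nodes. -/
def coxList (n : ℕ) : List (List ℕ) :=
  (List.range n).flatMap fun i => (List.range n).map fun j => coxWord i j

/-- The spider word. -/
def spA : List ℕ := (List.replicate 10 [0, 1, 2, 0, 5, 6, 0, 7, 8]).flatten

/-- The spider word for the other cyclic order. -/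
def spB : List ℕ := (List.replicate 10 [0, 1, 2, 0, 7, 8, 0, 5, 6]).flatten

/-- Short consequences of the spider word. -/
def shortRels : List (List ℕ) :=
  [[1, 2, 5, 0, 1, 7, 0, 5, 6, 8, 7, 0, 1, 2, 5, 0, 1, 7, 0, 5, 6, 8, 7, 0, 5, 1, 0, 7, 8, 2, 1, 0, 7, 5, 6, 0, 5, 1, 0, 7, 8, 2, 1, 0, 7, 5, 6, 0],
   [1, 2, 5, 0, 1, 7, 0, 5, 6, 8, 7, 0, 1, 2, 5, 0, 1, 7, 0, 5, 8, 7, 0, 1, 6, 5, 0, 7, 8, 2, 1, 0, 7, 5, 6, 0, 5, 1, 0, 7, 8, 2, 1, 0, 7, 5, 6, 0],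
   [1, 2, 5, 0, 1, 7, 0, 5, 6, 8, 7, 0, 1, 2, 5, 0, 1, 7, 0, 5, 8, 7, 0, 6, 5, 1, 0, 7, 8, 2, 1, 0, 7, 5, 6, 0, 5, 1, 0, 7, 8, 2, 1, 0, 7, 5, 6, 0],
   [1, 2, 6, 5, 0, 1, 7, 0, 5, 6, 8, 7, 0, 1, 2, 5, 0, 1, 7, 0, 5, 6, 8, 7, 0, 5, 1, 0, 7, 8, 2, 1, 0, 7, 5, 6, 0, 5, 1, 0, 7, 8, 2, 1, 0, 7, 5, 0],
   [1, 2, 6, 5, 0, 1, 7, 0, 5, 6, 8, 7, 0, 1, 2, 5, 0, 1, 7, 0, 5, 8, 7, 0, 6, 5, 1, 0, 7, 8, 2, 1, 0, 7, 5, 6, 0, 5, 1, 0, 7, 8, 2, 1, 0, 7, 5, 0],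
   [1, 2, 6, 5, 0, 1, 7, 0, 5, 6, 8, 7, 0, 1, 2, 5, 0, 1, 7, 0, 5, 8, 7, 6, 0, 5, 1, 0, 7, 8, 2, 1, 0, 7, 5, 6, 0, 5, 1, 0, 7, 8, 2, 1, 0, 7, 5, 0],
   [1, 2, 7, 0, 1, 5, 0, 6, 5, 7, 0, 1, 2, 8, 7, 0, 1, 5, 0, 6, 5, 7, 0, 1, 8, 7, 0, 5, 2, 1, 0, 7, 8, 6, 5, 0, 7, 1, 0, 5, 2, 1, 0, 7, 8, 6, 5, 0],
   [1, 2, 7, 0, 1, 5, 0, 6, 5, 7, 0, 1, 2, 8, 7, 0, 1, 5, 0, 6, 5, 7, 0, 8, 7, 1, 0, 5, 2, 1, 0, 7, 8, 6, 5, 0, 7, 1, 0, 5, 2, 1, 0, 7, 8, 6, 5, 0]]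

/-- The long element of the eight node subsystem. -/
def zeta : List ℕ := (List.replicate 15 [0, 1, 2, 3, 4, 5, 6, 7]).flatten

/-- The long element of the seven node subsystem. -/
def zed : List ℕ := (List.replicate 9 [0, 1, 5, 7, 2, 6, 3]).flatten

/-- The highest reflection of the eight node subsystem. -/
def theta : List ℕ := [4, 3, 2, 1, 0, 7, 5, 6, 0, 5, 1, 0, 7, 2, 1, 0, 5, 3, 2, 1, 0, 7, 6, 5, 0, 1, 2, 3, 4, 3, 2, 1, 0, 5, 6, 7, 0, 1, 2, 3, 5, 0, 1, 2, 7, 0, 1, 5, 0, 6, 5, 7, 0, 1, 2, 3, 4]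

/-- Whether every word of the first list is in the second. -/
def subWords (a b : List (List ℕ)) : Bool := a.all fun r => b.any fun s => eqL r s

theorem subWords_spec {a b : List (List ℕ)} (h : subWords a b = true) : ∀ r ∈ a, r ∈ b := by
  intro r hr
  simp only [subWords, List.all_eq_true, List.any_eq_true] at h
  obtain ⟨s, hs, e⟩ := h r hr
  rwa [eq_of_eqL e]

end CfsgLib.Bimonster54
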